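import Cfsg.Agent.H109.PD.PslC
import Cfsg.Agent.H160.PD.Crit

/-!
# S4246, row `PSL(2, q)` (helper109)
-/

set_option autoImplicit false
set_option linter.unusedSectionVars false

namespace Cfsg.Agent.H109.PD

open Subgroup
open Cfsg.Agent.H160.PD

theorem lt_three_pow (a : ℕ) : 2 * a < 3 ^ a := by
  induction a with
  | zero => norm_num
  | succ a ih =>
    rw [pow_succ]
    have : 1 ≤ 3 ^ a := Nat.one_le_pow _ _ (by norm_num)
    omega

theorem fac_lt {p f : ℕ} (hp : p.Prime) (hf : f ≠ 0) : f.factorization p < f := by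
  have h1 := Nat.le_of_dvd (Nat.pos_of_ne_zero hf) (Nat.ordProj_dvd f p)
  exact lt_of_lt_of_le (Nat.lt_pow_self hp.one_lt) h1

theorem num_one {p f t A : ℕ} (hp : p.Prime) (ht : t.Prime) (ht2 : t ≠ 2) (htp : t ≠ p) (hf : f ≠ 0)
    (h : A = 0 ∨ ∃ f₀, f = f₀ * t ∧ A ≤ f₀) : A = 0 ∨ (3 * A ≤ f ∧ 3 * f.factorization p < f) := by
  rcases h with h | ⟨f₀, h1, h2⟩
  · exact Or.inl h
  right
  have h3 : 3 ≤ t := by have := ht.two_le; omega
  have hf₀ : f₀ ≠ 0 := by rintro rfl; rw [zero_mul] at h1; exact hf h1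
  have h4 : f.factorization p = f₀.factorization p := by
    rw [h1, Nat.factorization_mul hf₀ ht.ne_zero, Finsupp.add_apply,
      Nat.factorization_eq_zero_of_not_dvd (fun h => htp ((Nat.prime_dvd_prime_iff_eq hp ht).1 h).symm), add_zero]
  have h5 := fac_lt hp hf₀
  rw [h4]
  constructor
  · nlinarith
  · nlinarith

variable {F : Type*} [Field F] [Finite F] {p : ℕ} [Fact p.Prime] [CharP F p] {f : ℕ}
  {π : Set ℕ} {L K L' K' : Subgroup (MulAut (P2 F))}

/-- `p ∈ π` -/
theorem char_mem (hF : Nat.card F = p ^ f) (h4 : 4 ≤ Nat.card F) (hf : f ≠ 0) (h : Cfg π L K L' K') : p ∈ π := by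
  have hp : p.Prime := Fact.out
  have hZ := center_bot h4
  by_contra hpπ
  obtain ⟨b, hb, t, ht, htπ, ht2, hbo⟩ := h.exists_prime
  obtain ⟨b', hb', t', ht', htπ', ht2', hbo'⟩ := h.symm.exists_prime
  have n1 := num_one hp ht ht2 (fun h0 => hpπ (h0 ▸ htπ)) hf (fix_char hF ht (fun h0 => hpπ (h0 ▸ htπ)) hbo)
  have n2 := num_one hp ht' ht2' (fun h0 => hpπ (h0 ▸ htπ')) hf (fix_char hF ht' (fun h0 => hpπ (h0 ▸ htπ')) hbo')
  have e1 := v_mono (h.trK_le hZ hb) p
  have e2 := v_mono (h.symm.trK_le hZ hb') p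
  have e3 := v_le hZ K p
  have e4 := h.numK p hp hpπ
  have e5 := v_card (F := F) hF hf
  have e6 := v_out hF h4 hf
  have e7 := fac_lt hp hf
  rw [e6] at e3
  simp only [v] at *
  omega

/-- `p` divides the order of `tr L` -/
theorem key (hF : Nat.card F = p ^ f) (h4 : 4 ≤ Nat.card F) (hf : f ≠ 0) (h : Cfg π L K L' K')
    (hL : p ∣ Nat.card (tr L)) : False := by
  classical
  have hp : p.Prime := Fact.out
  have hZ := center_bot h4
  have hpπ := char_mem hF h4 hf h
  have hp2 : p ≠ 2 := fun h0 => h.two (h0 ▸ hpπ)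
  have h2 : (2 : F) ≠ 0 := by
    intro h0
    have : (2 : F) = ((2 : ℕ) : F) := by norm_num
    rw [this, CharP.cast_eq_zero_iff F p] at h0
    exact hp2 ((Nat.prime_dvd_prime_iff_eq hp Nat.prime_two).1 h0)
  obtain ⟨u, hu, huo⟩ := Cfg.exists_mem hp hL
  have hup : u ^ p = 1 := by rw [← huo]; exact pow_orderOf_eq_one u
  have hu1 : u ≠ 1 := fun h0 => by rw [h0, orderOf_one] at huo; exact hp.one_lt.ne huo
  -- `tr K = 1`
  have hK : tr K = ⊥ := by
    rw [eq_bot_iff]
    intro y hy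
    rw [mem_bot]
    by_contra hy1
    have h3 := pow_char_of_comm (F := F) hup hu1 (h.tr_comm hZ hu hy).symm
    have h5 : orderOf y = p := orderOf_eq_prime h3 hy1
    have h6 : p ∣ Nat.card (tr K) := by
      rw [← h5]
      exact (Subgroup.orderOf_mk y hy) ▸ orderOf_dvd_natCard (⟨y, hy⟩ : tr K)
    exact h.not_mem_pi_of_dvd hZ hp h6 hpπ
  have hK2 : v 2 K < v 2 (P2 F) := by
    have e1 := v_le hZ K 2
    have e2 := two_out hF h4 hf hp2
    have e3 : v 2 (tr K) = 0 := by rw [hK]; simp [v]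
    omega
  -- an involution in `tr K'`
  have e2 := h.numK 2 Nat.prime_two h.two
  have hs : 2 ∣ Nat.card (tr K') := by
    rw [← v_pos Nat.prime_two]
    simp only [v] at *
    omega
  obtain ⟨s, hs, hso⟩ := Cfg.exists_mem Nat.prime_two hs
  have hL' : v p (tr L') = 0 := by
    apply v_eq_zero
    intro hd
    obtain ⟨w, hw, hwo⟩ := Cfg.exists_mem hp hd
    have hwp : w ^ p = 1 := by rw [← hwo]; exact pow_orderOf_eq_one w
    have hw1 : w ≠ 1 := fun h0 => by rw [h0, orderOf_one] at hwo; exact hp.one_lt.ne hwo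
    have h3 := pow_char_of_comm (F := F) hwp hw1 (h.symm.tr_comm hZ hw hs).symm
    have h5 : 2 ∣ p := by rw [← hso]; exact orderOf_dvd_of_pow_eq_one h3
    exact hp2 ((Nat.prime_dvd_prime_iff_eq Nat.prime_two hp).1 h5).symm
  -- `K = 1`
  have hK1 : K = ⊥ := by
    by_contra hne
    have h1 : Nat.card K ≠ 1 := fun h0 => hne (eq_bot_of_card_eq _ h0)
    obtain ⟨l, hl, hld⟩ := Nat.exists_prime_and_dvd h1
    have := Fact.mk hl
    obtain ⟨⟨k, hk⟩, hko⟩ := exists_prime_orderOf_dvd_card' l hld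
    have hko' : orderOf k = l := by rw [← hko]; exact (Subgroup.orderOf_mk k hk).symm
    have hlp : l ≠ p := fun h0 => h.piK l hl hld (h0 ▸ hpπ)
    have e3 : tr L ≤ Fx k := fun x hx => h.fixK hZ hk hx
    have e4 := v_mono e3 p
    have e5 := v_le hZ L p
    have e6 := h.numL p hp hpπ
    have e7 := v_card (F := F) hF hf
    have e8 := v_out hF h4 hf
    have e9 : 2 * v p (Fx k) ≤ f := by
      rcases fix_char hF hl hlp hko' with h0 | ⟨f₀, h0, h00⟩
      · omega
      · have := hl.two_le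
        nlinarith
    have e10 : 2 * f.factorization p < f := by
      have h3 := Nat.le_of_dvd (Nat.pos_of_ne_zero hf) (Nat.ordProj_dvd f p)
      have h5 := lt_three_pow (f.factorization p)
      have h6 : 3 ≤ p := by have := hp.two_le; omega
      have h7 : 3 ^ f.factorization p ≤ p ^ f.factorization p := Nat.pow_le_pow_left h6 _
      omega
    rw [e8] at e5
    simp only [v] at *
    omega
  have hKc : ∀ r, v r K = 0 := fun r => by rw [hK1]; simp [v]
  -- two involutions in `tr K'`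
  obtain ⟨a, ha, b, hb, ha1, haa, hb1, hbb, hab⟩ := two_inv h2 (tr K') (by
    have := hKc 2
    simp only [v] at *
    omega)
  have hodd' : Odd (Nat.card (tr L')) := h.symm.odd hZ
  have hLt : tr L' = ⊥ := by
    rw [eq_bot_iff]
    intro z hz
    rw [mem_bot]
    by_contra hz1
    have hzo : Odd (orderOf z) := by
      refine Odd.of_dvd_nat hodd' ?_
      exact (Subgroup.orderOf_mk z hz) ▸ orderOf_dvd_natCard (⟨z, hz⟩ : tr L')
    exact hab (Lib.PSL2Odd.eq_of_comm h2 ha1 haa hb1 hbb (h.symm.tr_comm hZ hz ha) (h.symm.tr_comm hZ hz hb) hz1 hzo)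
  obtain ⟨c, hc, t, ht, htπ, ht2, hco⟩ := h.symm.exists_prime
  have hct : c ^ t = 1 := by rw [← hco]; exact pow_orderOf_eq_one c
  have hcin : ¬ ∃ g, c = MulAut.conj g := by
    rintro ⟨g, rfl⟩
    have h3 : g ∈ tr L' := hc
    rw [hLt, mem_bot] at h3
    rw [h3, map_one, orderOf_one] at hco
    exact ht.one_lt.ne hco
  have hg2 : Nat.gcd 2 (p ^ f - 1) = 2 := by
    apply Nat.gcd_eq_left
    have : (p ^ f) % 2 = 1 := by rw [Nat.pow_mod, Nat.odd_iff.1 (hp.odd_of_ne_two hp2)]; simp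
    omega
  have hout : out (P2 F) = f * 2 := by rw [out_eq hF h4 hf, hg2]
  have htf : t ∣ f := by
    have h3 := card_dvd hZ L'
    rw [hLt, Subgroup.card_bot, one_mul, hout] at h3
    have h5 : t ∣ Nat.card L' := by
      rw [← hco]
      exact (Subgroup.orderOf_mk c hc) ▸ orderOf_dvd_natCard (⟨c, hc⟩ : L')
    rcases ht.dvd_mul.1 (h5.trans h3) with h6 | h6
    · exact h6
    · exact absurd ((Nat.prime_dvd_prime_iff_eq ht Nat.prime_two).1 h6) ht2
  have hf3 : 3 ≤ f := by
    have h3 := Nat.le_of_dvd (Nat.pos_of_ne_zero hf) htf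
    have := ht.two_le
    omega
  obtain ⟨r, hr, hprim, hr1, hrp⟩ := Lib.Zsigmondy.exists_primitive (a := p) (n := 2 * f) hp.two_le (by omega)
    (fun h0 => by omega) (fun h0 => hp2 h0.1)
  have hrf : 2 * f + 1 ≤ r := by
    have := Nat.le_of_dvd (by have := hr.two_le; omega) hr1
    omega
  have hrp' : r ≠ p := by rintro rfl; exact hrp dvd_rfl
  have hr2 : r ≠ 2 := by omega
  have hrS : 0 < v r (P2 F) := by
    rw [v_pos hr]
    have h3 := card_eq (F := F) hF
    rw [hg2] at h3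
    have h5 : r ∣ Nat.card (P2 F) * 2 := by
      rw [h3]
      refine Dvd.dvd.mul_left ?_ _
      rw [← pow_mul, mul_comm f 2]
      exact (hprim _).2 dvd_rfl
    rcases hr.dvd_mul.1 h5 with h6 | h6
    · exact h6
    · exact absurd ((Nat.prime_dvd_prime_iff_eq hr Nat.prime_two).1 h6) hr2
  have hrout : (out (P2 F)).factorization r = 0 := by
    apply Nat.factorization_eq_zero_of_not_dvd
    rw [hout]
    intro h3
    have := Nat.le_of_dvd (by omega) h3
    omega
  by_cases hrπ : r ∈ π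
  · have e3 := h.numL r hr hrπ
    have e4 := v_le hZ L r
    have e5 : v r (tr L') = 0 := by rw [hLt]; simp [v]
    have e6 : r ∣ Nat.card (tr L) := by
      rw [← v_pos hr]
      simp only [v] at *
      omega
    exact no_both h2 hp2 hF hf hr hrp' hprim (h.odd hZ) hL e6
  · have e3 := h.numK r hr hrπ
    have e4 : r ∣ Nat.card (tr K') := by
      rw [← v_pos hr]
      have := hKc r
      simp only [v] at *
      omega
    obtain ⟨x, hx, hxo⟩ := Cfg.exists_mem hr e4
    exact hcin (inner_of_fix h2 hF hf hr hr2 hrp' hprim ht ht2 hct hxo (h.symm.fix hZ hc hx))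

/-- **The row `PSL(2, q)`.** -/
theorem row_psl2 (F : Type*) [Field F] [Finite F] (h4 : 4 ≤ Nat.card F) :
    Row (Matrix.ProjectiveSpecialLinearGroup (Fin 2) F) := by
  change Row (P2 F)
  have := Fintype.ofFinite F
  obtain ⟨p, hch⟩ := CharP.exists F
  obtain ⟨n, hp, hn⟩ := FiniteField.card F p
  have : Fact p.Prime := ⟨hp⟩
  obtain ⟨f, hfn⟩ : ∃ f : ℕ, f = n := ⟨_, rfl⟩
  have hf : f ≠ 0 := by rw [hfn]; exact n.2.ne'
  have hF : Nat.card F = p ^ f := by rw [Nat.card_eq_fintype_card, hn, hfn]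
  intro π L K L' K' h
  have hpπ := char_mem hF h4 hf h
  have hZ := center_bot h4
  have h1 := h.numL p hp hpπ
  have h2 := v_le hZ L p
  have h3 := v_out hF h4 hf
  have h5 := v_card (F := F) hF hf
  have h6 := fac_lt hp hf
  by_cases hL : p ∣ Nat.card (tr L)
  · exact key hF h4 hf h hL
  · by_cases hL' : p ∣ Nat.card (tr L')
    · exact key hF h4 hf h.symm hL'
    · have h7 : v p (tr L) = 0 := v_eq_zero hL
      have h8 : v p (tr L') = 0 := v_eq_zero hL'
      rw [h3] at h2
      simp only [v] at *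
      omega

end Cfsg.Agent.H109.PD
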