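import Cfsg.Agent.H109.PD.PslA
import Cfsg.Agent.Lib.PSL2Odd
import Cfsg.Agent.Lib.Zsigmondy
import Cfsg.Agent.Lib.FieldAutCard
import Cfsg.Agent.H160.PSLTwo
import Cfsg.Agent.S0205

/-!
# S4246, row `PSL(2, q)`: numbers, four-groups, automorphisms fixing elements of order `r | q + 1` (helper109)
-/

set_option autoImplicit false
set_option linter.unusedSectionVars false

namespace Cfsg.Agent.H109.PD

open Matrix Subgroup
open Cfsg.Agent.ClassicalGeometry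
open Cfsg.Agent.ClassicalGeometry.AutPSL.Root (pr pr_surjective)
open Cfsg.Agent.ClassicalGeometry.AutPSL.Auto
open Cfsg.Agent.Walter.FieldPSL
open Cfsg.Agent.Lib.SL2Mat
open Cfsg.Agent.H160.PD

variable {F : Type*} [Field F] [Finite F] {p : ℕ} [Fact p.Prime] [CharP F p] {f : ℕ}

/-! ### orders -/

theorem card_eq (hF : Nat.card F = p ^ f) :
    Nat.card (P2 F) * Nat.gcd 2 (p ^ f - 1) = p ^ f * ((p ^ f) ^ 2 - 1) := by
  have := Fintype.ofFinite F
  have h := PSL2Basic.card_PSL2_gcd F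
  rwa [← Nat.card_eq_fintype_card, hF] at h

theorem center_bot (h4 : 4 ≤ Nat.card F) : center (P2 F) = ⊥ := by
  have hs : IsSimpleGroup (P2 F) := Matrix.ProjectiveSpecialLinearGroup.rank_two_simple h4
  refine center_eq_bot fun hc => ?_
  -- the group would have prime order
  have := Fintype.ofFinite F
  let _ : CommGroup (P2 F) := { (inferInstance : Group (P2 F)) with mul_comm := hc.is_comm.comm }
  have hpr : (Nat.card (P2 F)).Prime := IsSimpleGroup.prime_card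
  have h := PSL2Basic.card_PSL2_gcd F
  have h1 : Nat.gcd 2 (Fintype.card F - 1) ∣ 2 := Nat.gcd_dvd_left _ _
  rw [Nat.card_eq_fintype_card (α := F)] at h4
  obtain ⟨q, hq⟩ : ∃ q, q = Fintype.card F := ⟨_, rfl⟩
  rw [← hq] at h h1 h4
  have h3 : q ^ 2 - 1 = (q - 1) * (q + 1) := by
    obtain ⟨k, rfl⟩ : ∃ k, q = k + 1 := ⟨q - 1, by omega⟩
    rw [Nat.add_sub_cancel]
    have : (k + 1) ^ 2 = k * (k + 1 + 1) + 1 := by ring
    omega
  have h5 : Nat.card (P2 F) ∣ q * ((q - 1) * (q + 1)) := by rw [← h3, ← h]; exact dvd_mul_right _ _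
  have h6 : Nat.card (P2 F) ≤ q + 1 := by
    rcases hpr.dvd_mul.1 h5 with h7 | h7
    · have := Nat.le_of_dvd (by omega) h7
      omega
    · rcases hpr.dvd_mul.1 h7 with h8 | h8
      · have := Nat.le_of_dvd (by omega) h8
        omega
      · exact Nat.le_of_dvd (by omega) h8
  have h7 : Nat.gcd 2 (q - 1) ≤ 2 := Nat.le_of_dvd (by norm_num) h1
  have h8 : q * ((q - 1) * (q + 1)) ≤ (q + 1) * 2 := by
    rw [← h3, ← h]
    exact Nat.mul_le_mul h6 h7
  have h9 : q * (q - 1) ≤ 2 := by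
    have : (q + 1) * (q * (q - 1)) ≤ (q + 1) * 2 := by
      calc _ = q * ((q - 1) * (q + 1)) := by ring
        _ ≤ _ := h8
    exact Nat.le_of_mul_le_mul_left this (by omega)
  have h10 : 4 * 3 ≤ q * (q - 1) := Nat.mul_le_mul h4 (by omega)
  omega

theorem gcd_char (hf : f ≠ 0) : ¬ p ∣ Nat.gcd 2 (p ^ f - 1) := by
  intro h
  have hp : p.Prime := Fact.out
  have h1 : p ∣ p ^ f - 1 := h.trans (Nat.gcd_dvd_right _ _)
  have h2 : p ∣ p ^ f := dvd_pow_self _ hf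
  have h3 : 1 ≤ p ^ f := Nat.one_le_pow _ _ hp.pos
  have h4 : p ∣ p ^ f - (p ^ f - 1) := Nat.dvd_sub h2 h1
  rw [Nat.sub_sub_self h3] at h4
  exact hp.one_lt.ne' (Nat.dvd_one.1 h4)

theorem v_card (hF : Nat.card F = p ^ f) (hf : f ≠ 0) : v p (P2 F) = f := by
  have hp : p.Prime := Fact.out
  have h := card_eq hF
  have h1 : 1 < p ^ f := Nat.one_lt_pow hf hp.one_lt
  have h2 : (p ^ f) ^ 2 - 1 ≠ 0 := by
    have := Nat.one_lt_pow two_ne_zero h1
    omega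
  have hg : Nat.gcd 2 (p ^ f - 1) ≠ 0 := Nat.gcd_ne_zero_left two_ne_zero
  have h3 := congrArg (fun n : ℕ => n.factorization p) h
  rw [Nat.factorization_mul Nat.card_pos.ne' hg, Nat.factorization_mul (by omega) h2, Finsupp.add_apply,
    Finsupp.add_apply, Nat.factorization_eq_zero_of_not_dvd (gcd_char hf), hp.factorization_pow,
    Finsupp.single_eq_same] at h3
  have h4 : ¬ p ∣ (p ^ f) ^ 2 - 1 := by
    intro h5
    have h6 : p ∣ (p ^ f) ^ 2 := dvd_pow (dvd_pow_self _ hf) two_ne_zero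
    have h7 : p ∣ (p ^ f) ^ 2 - ((p ^ f) ^ 2 - 1) := Nat.dvd_sub h6 h5
    rw [Nat.sub_sub_self (Nat.one_le_pow _ _ (by omega))] at h7
    exact hp.one_lt.ne' (Nat.dvd_one.1 h7)
  rw [Nat.factorization_eq_zero_of_not_dvd h4] at h3
  exact h3

theorem out_eq (hF : Nat.card F = p ^ f) (h4 : 4 ≤ Nat.card F) (hf : f ≠ 0) :
    out (P2 F) = f * Nat.gcd 2 (p ^ f - 1) := by
  have := Fintype.ofFinite F
  have h1 := ClassicalGeometry.AutPSL.Main.card_two (F := F) p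
  have h2 : Nat.card (F ≃+* F) = f := Lib.FieldAutCard.card_ringAut (Nat.one_le_iff_ne_zero.2 hf)
    (by rw [← Nat.card_eq_fintype_card]; exact hF)
  have h3 : Nat.card (Matrix.ProjGenLinGroup (Fin 2) F) = p ^ f * ((p ^ f) ^ 2 - 1) := by
    have := PSL2Basic.card_PGL2 F
    rwa [← Nat.card_eq_fintype_card, hF] at this
  have h5 : Nat.card (MulAut.conj : P2 F →* MulAut (P2 F)).range = Nat.card (P2 F) :=
    Nat.card_congr (MonoidHom.ofInjective (conj_injective (center_bot h4))).symm.toEquiv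
  have h6 := (MulAut.conj : P2 F →* MulAut (P2 F)).range.card_mul_index
  rw [h5, h1, h2, h3, ← card_eq hF] at h6
  have h7 : 0 < Nat.card (P2 F) := Nat.card_pos
  apply Nat.eq_of_mul_eq_mul_left h7
  change Nat.card (P2 F) * (MulAut.conj : P2 F →* MulAut (P2 F)).range.index = _
  rw [h6]
  ring

/-- the `p`-part of `|Out|` -/
theorem v_out (hF : Nat.card F = p ^ f) (h4 : 4 ≤ Nat.card F) (hf : f ≠ 0) :
    (out (P2 F)).factorization p = f.factorization p := by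
  rw [out_eq hF h4 hf, Nat.factorization_mul hf (Nat.gcd_ne_zero_left two_ne_zero), Finsupp.add_apply,
    Nat.factorization_eq_zero_of_not_dvd (gcd_char hf), add_zero]

/-- `2 ^ (a + 1) ∣ x ^ (2 ^ a) - 1` -/
theorem two_pow_dvd {x : ℕ} (hx : x % 2 = 1) (a : ℕ) : 2 ^ (a + 1) ∣ x ^ 2 ^ a - 1 := by
  induction a with
  | zero => simpa using (Nat.dvd_of_mod_eq_zero (by omega) : 2 ∣ x - 1)
  | succ a ih =>
    have h1 : 1 ≤ x ^ 2 ^ a := Nat.one_le_pow _ _ (by omega)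
    have h2 : x ^ 2 ^ (a + 1) - 1 = (x ^ 2 ^ a - 1) * (x ^ 2 ^ a + 1) := by
      obtain ⟨k, hk⟩ : ∃ k, x ^ 2 ^ a = k + 1 := ⟨x ^ 2 ^ a - 1, by omega⟩
      rw [pow_succ 2 a, pow_mul, hk, Nat.add_sub_cancel]
      have : (k + 1) ^ 2 = k * (k + 1 + 1) + 1 := by ring
      omega
    have h3 : 2 ∣ x ^ 2 ^ a + 1 := by
      have : (x ^ 2 ^ a) % 2 = 1 := by rw [Nat.pow_mod, hx]; simp
      omega
    rw [h2, pow_succ]
    exact mul_dvd_mul ih h3

/-- the `2`-part of `|Out|` is smaller than the `2`-part of the order -/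
theorem two_out (hF : Nat.card F = p ^ f) (h4 : 4 ≤ Nat.card F) (hf : f ≠ 0) (hp2 : p ≠ 2) :
    (out (P2 F)).factorization 2 < v 2 (P2 F) := by
  have hp : p.Prime := Fact.out
  have hodd : p % 2 = 1 := Nat.odd_iff.1 (hp.odd_of_ne_two hp2)
  have hqo : (p ^ f) % 2 = 1 := by rw [Nat.pow_mod, hodd]; simp
  have hg : Nat.gcd 2 (p ^ f - 1) = 2 := Nat.gcd_eq_left (by omega)
  have h1 := card_eq hF
  rw [out_eq hF h4 hf]
  rw [hg] at h1 ⊢
  -- `2 ^ (v₂ f + 3) ∣ q ^ 2 - 1`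
  obtain ⟨a, ha⟩ : ∃ a, a = f.factorization 2 := ⟨_, rfl⟩
  obtain ⟨m, hm⟩ : 2 ^ a ∣ f := by rw [ha]; exact Nat.ordProj_dvd f 2
  have h2 : 2 ^ (a + 1) ∣ p ^ f - 1 := by
    rw [hm, mul_comm, pow_mul]
    exact two_pow_dvd (by rw [Nat.pow_mod, hodd]; simp) a
  have h3 : 2 ^ (a + 3) ∣ (p ^ f) ^ 2 - 1 := by
    have e1 : (p ^ f) ^ 2 - 1 = (p ^ f - 1) * (p ^ f + 1) := by
      obtain ⟨k, hk⟩ : ∃ k, p ^ f = k + 1 := ⟨p ^ f - 1, by have := Nat.one_le_pow f p hp.pos; omega⟩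
      rw [hk, Nat.add_sub_cancel]
      have : (k + 1) ^ 2 = k * (k + 1 + 1) + 1 := by ring
      omega
    -- `x = p ^ m`, `x ^ 2 = 1 mod 8`
    have e2 : p ^ f = (p ^ m) ^ 2 ^ a := by rw [hm, mul_comm, pow_mul]
    have hx : (p ^ m) % 2 = 1 := by rw [Nat.pow_mod, hodd]; simp
    obtain ⟨x, hxm⟩ : ∃ x, x = p ^ m := ⟨_, rfl⟩
    rw [e2, ← hxm]
    rw [← hxm] at hx
    clear e1 e2 hxm h1 hF h4 ha hm h2 hg
    induction a with
    | zero =>
      rw [pow_zero, pow_one]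
      obtain ⟨k, hk⟩ : ∃ k, x = 2 * k + 1 := ⟨x / 2, by omega⟩
      have e3 : x ^ 2 - 1 = 4 * (k * (k + 1)) := by
        rw [hk]
        have : (2 * k + 1) ^ 2 = 4 * (k * (k + 1)) + 1 := by ring
        omega
      have e4 : 2 ∣ k * (k + 1) := even_iff_two_dvd.1 (Nat.even_mul_succ_self k)
      rw [e3]
      exact mul_dvd_mul (by norm_num : (4 : ℕ) ∣ 4) e4
    | succ a ih =>
      have e5 : 1 ≤ x ^ 2 ^ a := Nat.one_le_pow _ _ (by omega)
      have e6 : (x ^ 2 ^ (a + 1)) ^ 2 - 1 = ((x ^ 2 ^ a) ^ 2 - 1) * ((x ^ 2 ^ a) ^ 2 + 1) := by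
        obtain ⟨k, hk⟩ : ∃ k, (x ^ 2 ^ a) ^ 2 = k + 1 := ⟨(x ^ 2 ^ a) ^ 2 - 1, by
          have := Nat.one_le_pow 2 _ e5; omega⟩
        rw [pow_succ 2 a, pow_mul, hk, Nat.add_sub_cancel]
        have : (k + 1) ^ 2 = k * (k + 1 + 1) + 1 := by ring
        omega
      have e7 : 2 ∣ (x ^ 2 ^ a) ^ 2 + 1 := by
        have : ((x ^ 2 ^ a) ^ 2) % 2 = 1 := by rw [← pow_mul, Nat.pow_mod, hx]; simp
        omega
      rw [e6, show a + 1 + 3 = (a + 3) + 1 by ring, pow_succ]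
      exact mul_dvd_mul ih e7
  have h5 : 2 ^ (a + 3) ∣ Nat.card (P2 F) * 2 := by rw [h1]; exact h3.trans (dvd_mul_left _ _)
  have h6 : 2 ^ (a + 2) ∣ Nat.card (P2 F) := by
    rw [show a + 3 = (a + 2) + 1 by ring, pow_succ] at h5
    exact Nat.dvd_of_mul_dvd_mul_right (by norm_num) h5
  have h7 : a + 2 ≤ v 2 (P2 F) := (Nat.prime_two.pow_dvd_iff_le_factorization Nat.card_pos.ne').1 h6
  rw [Nat.factorization_mul hf two_ne_zero, Finsupp.add_apply, ← ha, Nat.prime_two.factorization_self]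
  omega

end Cfsg.Agent.H109.PD
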