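import Cfsg.Agent.H109.PD.PslB
import Cfsg.Agent.Lib.PSL2Torus

/-!
# S4246, row `PSL(2, q)`: four-groups, automorphisms fixing elements of order `r`, odd order subgroups (helper109)

* `two_inv` : a subgroup with the full `2`-part contains two different involutions;
* `inner_of_fix` : an automorphism of odd prime order fixing an element of order `r` (a primitive prime divisor of
  `p ^ (2 f) - 1`) is inner;
* `no_both` : no subgroup of odd order has order divisible by `p` and `r`.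
-/

set_option autoImplicit false
set_option linter.unusedSectionVars false

namespace Cfsg.Agent.H109.PD

open Matrix Subgroup
open Cfsg.Agent.ClassicalGeometry
open Cfsg.Agent.ClassicalGeometry.AutPSL.Root (pr pr_surjective)
open Cfsg.Agent.ClassicalGeometry.AutPSL.Auto
open Cfsg.Agent.Walter.FieldPSL
open Cfsg.Agent.Lib.SL2Mat
open Cfsg.Agent.H160.PD
open Cfsg.Agent.ClassicalGeometry.KleinCount (CommInv)
open scoped commutatorElement

variable {F : Type*} [Field F] [Finite F] {p : ℕ} [Fact p.Prime] [CharP F p] {f : ℕ}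

/-- two commuting involutions -/
theorem exists_commInv (h2 : (2 : F) ≠ 0) : ∃ a b : P2 F, CommInv a b := by
  obtain ⟨a, b, h⟩ := Lib.PSL2Torus.exists_sum_sq h2 (-1)
  exact ⟨pr I, pr (J a b h), ⟨CpAutRee.PslThree.pr_I_ne, CpAutRee.PslThree.pr_J_ne h2 h,
    CpAutRee.PslThree.pr_IJ_ne h2 h, pr_I_sq, pr_J_sq h, pr_IJ h⟩⟩

/-- **A subgroup with the full `2`-part contains two different involutions.** -/
theorem two_inv (h2 : (2 : F) ≠ 0) (H : Subgroup (P2 F)) (hH : v 2 (P2 F) ≤ v 2 H) :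
    ∃ a ∈ H, ∃ b ∈ H, a ≠ 1 ∧ a * a = 1 ∧ b ≠ 1 ∧ b * b = 1 ∧ a ≠ b := by
  have : Fact (Nat.Prime 2) := ⟨Nat.prime_two⟩
  obtain ⟨x, y, hxy⟩ := exists_commInv h2
  have hV : IsPGroup 2 hxy.four := IsPGroup.of_card (n := 2) (by rw [hxy.isKleinFour_four.card_four]; norm_num)
  obtain ⟨Q, hQ⟩ := hV.exists_le_sylow
  obtain ⟨R⟩ : Nonempty (Sylow 2 H) := inferInstance
  have hRc : Nat.card ((R : Subgroup H).map H.subtype) = 2 ^ v 2 H := by
    rw [← show Nat.card R = 2 ^ v 2 H from R.card_eq_multiplicity]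
    exact Nat.card_congr ((R : Subgroup H).equivMapOfInjective _ (subtype_injective _)).symm.toEquiv
  have hle : v 2 H = v 2 (P2 F) := by
    apply le_antisymm _ hH
    exact (Nat.factorization_le_iff_dvd Nat.card_pos.ne' Nat.card_pos.ne').2 (card_subgroup_dvd_card H) 2
  let T : Sylow 2 (P2 F) := Sylow.ofCard ((R : Subgroup H).map H.subtype) (by rw [hRc, hle])
  obtain ⟨g, hg⟩ := MulAction.exists_smul_eq (P2 F) Q T
  have key : ∀ z ∈ hxy.four, g * z * g⁻¹ ∈ H := by
    intro z hz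
    have h1 : g * z * g⁻¹ ∈ T := by
      rw [← hg, Lib.AutSL2.mem_smul_sylow]
      have : g⁻¹ * (g * z * g⁻¹) * g = z := by group
      rw [this]
      exact hQ hz
    have h3 : g * z * g⁻¹ ∈ (R : Subgroup H).map H.subtype := h1
    obtain ⟨w, -, hw⟩ := h3
    rw [← hw]
    exact w.2
  have hne : ∀ z : P2 F, z ≠ 1 → g * z * g⁻¹ ≠ 1 := by
    intro z hz h
    rw [mul_inv_eq_one, mul_eq_left] at h
    exact hz h
  have hsq : ∀ z : P2 F, z * z = 1 → (g * z * g⁻¹) * (g * z * g⁻¹) = 1 := by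
    intro z hz
    calc (g * z * g⁻¹) * (g * z * g⁻¹) = g * (z * z) * g⁻¹ := by group
      _ = 1 := by rw [hz]; group
  refine ⟨g * x * g⁻¹, key x ?_, g * y * g⁻¹, key y ?_, hne x hxy.hx, hsq x hxy.xx, hne y hxy.hy, hsq y hxy.yy, ?_⟩
  · exact hxy.mem_four.2 (Or.inr (Or.inl rfl))
  · exact hxy.mem_four.2 (Or.inr (Or.inr (Or.inl rfl)))
  · intro h
    exact hxy.hxy (mul_left_cancel (mul_right_cancel h))

/-! ### automorphisms fixing elements of order `r` -/

omit [Finite F] in
theorem exists_pow (A : GL (Fin 2) F) (σ : F ≃+* F) (n : ℕ) :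
    ∃ B : GL (Fin 2) F, (cj A * fld σ : MulAut (Matrix.SpecialLinearGroup (Fin 2) F)) ^ n = cj B * fld (σ ^ n) := by
  induction n with
  | zero => exact ⟨1, by rw [pow_zero, pow_zero, map_one, map_one, mul_one]⟩
  | succ n ih =>
    obtain ⟨B, hB⟩ := ih
    refine ⟨B * CpAutRee.PslThree.gm (σ ^ n) A, ?_⟩
    rw [pow_succ, hB, map_mul, pow_succ σ, map_mul]
    have h1 := CpAutRee.PslThree.fld_mul_cj (σ ^ n) A
    rw [mul_assoc (cj B), ← mul_assoc (fld (σ ^ n)), h1]
    simp only [mul_assoc]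

omit [Finite F] in
theorem sigma_pow {A : GL (Fin 2) F} {σ : F ≃+* F} {n : ℕ} (h : lift (cj A * fld σ) ^ n = 1) : σ ^ n = 1 := by
  obtain ⟨B, hB⟩ := exists_pow A σ n
  rw [← map_pow, hB] at h
  exact (ClassicalGeometry.AutPSL.Main.injective_aux (τ := 1) (by rw [h, map_one, map_one])).2

theorem inner_of_fix (h2 : (2 : F) ≠ 0) (hF : Nat.card F = p ^ f) (hf : f ≠ 0) {r : ℕ} (hr : r.Prime) (hr2 : r ≠ 2)
    (hrp : r ≠ p) (hprim : ∀ m, r ∣ p ^ m - 1 ↔ 2 * f ∣ m) {t : ℕ} (ht : t.Prime) (ht2 : t ≠ 2) {b : MulAut (P2 F)}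
    (hb : b ^ t = 1) {x : P2 F} (hx : orderOf x = r) (hbx : b x = x) : ∃ g, b = MulAut.conj g := by
  have hp : p.Prime := Fact.out
  have := Fintype.ofFinite F
  obtain ⟨A, σ, rfl⟩ := ClassicalGeometry.AutPSL.Main.surj_two p b
  have hσt := sigma_pow hb
  have hxr : x ^ r = 1 := by rw [← hx]; exact pow_orderOf_eq_one x
  obtain ⟨X, rfl, hX⟩ := BpRee.PslOdd.exists_lift (hr.odd_of_ne_two hr2) hxr
  have hX1 : X ≠ 1 := by
    rintro rfl
    rw [map_one, orderOf_one] at hx
    exact hr.one_lt.ne hx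
  rw [lift_pr, MulAut.mul_apply, pr_eq_iff] at hbx
  have h3 : cj A (fld σ X) = X := by
    rcases hbx with h | h
    · exact h
    · exfalso
      have h4 : (cj A (fld σ X)) ^ r = 1 := by rw [← map_pow, ← map_pow, hX, map_one, map_one]
      rw [h, (hr.odd_of_ne_two hr2).neg_pow, hX] at h4
      have h5 := congrFun (congrFun (congrArg Subtype.val h4) 0) 0
      rw [Matrix.SpecialLinearGroup.coe_neg, Matrix.neg_apply] at h5
      simp only [Matrix.SpecialLinearGroup.coe_one, Matrix.one_apply_eq] at h5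
      apply h2
      linear_combination -h5
  have h4 := cj_eq_iff.1 h3
  have hσ : σ = 1 := by
    refine H568.FieldFix.sigma_eq_one (l := r) (r := p) (f := f) (E := 2 * f) (A := A) (X := X.1) hr ?_ ht hσt hp hF
      ?_ ?_ h4 ?_ ?_
    · rw [hF]
      intro h
      exact hrp ((Nat.prime_dvd_prime_iff_eq hr hp).1 (hr.dvd_of_dvd_pow h))
    · intro m hm h
      exact Nat.le_of_dvd (Nat.pos_of_ne_zero hm) ((hprim m).1 h)
    · rw [Fintype.card_fin]
      have := ht.two_le
      have h5 : 3 ≤ t := by omega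
      nlinarith [Nat.pos_of_ne_zero hf]
    · rw [← Matrix.SpecialLinearGroup.coe_pow, hX, Matrix.SpecialLinearGroup.coe_one]
    · intro h
      exact hX1 (Subtype.ext h)
  subst hσ
  obtain ⟨k, hk⟩ := ht.odd_of_ne_two ht2
  have h5 : lift (cj A * fld (1 : F ≃+* F)) = lift (cj (A ^ (k + 1) * A ^ (k + 1))) := by
    have e1 : lift (cj A * fld (1 : F ≃+* F)) = lift (cj A) := by rw [map_one fld, mul_one]
    rw [e1] at hb ⊢
    rw [← pow_add, map_pow, map_pow, show k + 1 + (k + 1) = t + 1 by omega, pow_succ, hb, one_mul]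
  rw [h5]
  refine CpAutRee.PslThree.lift_cj_inner (c := ((A ^ (k + 1) : GL (Fin 2) F) : Matrix (Fin 2) (Fin 2) F).det) ?_
  rw [Units.val_mul, Matrix.det_mul, sq]

/-! ### subgroups of odd order -/

omit [Finite F] in
/-- commuting matrices of `SL(2, F)` with the same trace -/
theorem eq_or_inv {A B : Matrix.SpecialLinearGroup (Fin 2) F} (h2 : (2 : F) ≠ 0) (hAB : A.1 * B.1 = B.1 * A.1)
    (htr : A.1.trace = B.1.trace) (h4 : A.1.trace ^ 2 ≠ 4) : B = A ∨ B = A⁻¹ := by
  have dA := A.2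
  have dB := B.2
  rw [det_fin_two] at dA dB
  rw [trace_fin_two, trace_fin_two] at htr
  rw [trace_fin_two] at h4
  have e00 := congrFun (congrFun hAB 0) 0
  have e01 := congrFun (congrFun hAB 0) 1
  have e10 := congrFun (congrFun hAB 1) 0
  simp only [mul_apply, Fin.sum_univ_two] at e00 e01 e10
  obtain ⟨q, hq⟩ : ∃ q, q = (A.1 0 0 - A.1 1 1) ^ 2 + 4 * (A.1 0 1 * A.1 1 0) := ⟨_, rfl⟩
  obtain ⟨m, hm⟩ : ∃ m, m = (A.1 0 0 - A.1 1 1) * (B.1 0 0 - B.1 1 1) + 2 * (A.1 0 1 * B.1 1 0 + B.1 0 1 * A.1 1 0) :=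
    ⟨_, rfl⟩
  have q1 : q = (A.1 0 0 + A.1 1 1) ^ 2 - 4 := by rw [hq]; linear_combination -4 * dA
  have q2 : q = (B.1 0 0 - B.1 1 1) ^ 2 + 4 * (B.1 0 1 * B.1 1 0) := by
    rw [q1, htr]; linear_combination 4 * dB
  have q0 : q ≠ 0 := by
    intro h
    rw [q1] at h
    exact h4 (sub_eq_zero.1 h)
  have f1 : A.1 0 1 * B.1 1 0 = B.1 0 1 * A.1 1 0 := by linear_combination e00
  have f2 : (A.1 0 0 - A.1 1 1) * B.1 0 1 = A.1 0 1 * (B.1 0 0 - B.1 1 1) := by linear_combination e01
  have f3 : (A.1 0 0 - A.1 1 1) * B.1 1 0 = A.1 1 0 * (B.1 0 0 - B.1 1 1) := by linear_combination -e10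
  have g1 : q * (B.1 0 0 - B.1 1 1) = m * (A.1 0 0 - A.1 1 1) := by
    rw [hq, hm]; linear_combination -2 * A.1 0 1 * f3 - 2 * A.1 1 0 * f2
  have g2 : q * B.1 0 1 = m * A.1 0 1 := by
    rw [hq, hm]; linear_combination (A.1 0 0 - A.1 1 1) * f2 - 2 * A.1 0 1 * f1
  have g3 : q * B.1 1 0 = m * A.1 1 0 := by
    rw [hq, hm]; linear_combination (A.1 0 0 - A.1 1 1) * f3 + 2 * A.1 1 0 * f1
  have g4 : q * q = m * m := by
    apply mul_right_cancel₀ q0
    have : q * q * q = q * q * ((B.1 0 0 - B.1 1 1) ^ 2 + 4 * (B.1 0 1 * B.1 1 0)) := by rw [← q2]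
    rw [this]
    have h5 : m * m * q = m * m * ((A.1 0 0 - A.1 1 1) ^ 2 + 4 * (A.1 0 1 * A.1 1 0)) := by rw [← hq]
    rw [h5]
    linear_combination (q * (B.1 0 0 - B.1 1 1) + m * (A.1 0 0 - A.1 1 1)) * g1 + 4 * (q * B.1 1 0) * g2 +
      4 * (m * A.1 0 1) * g3
  rcases mul_self_eq_mul_self_iff.1 g4 with h | h
  · left
    rw [← h] at g1 g2 g3
    have k1 := mul_left_cancel₀ q0 g1
    have k2 := mul_left_cancel₀ q0 g2
    have k3 := mul_left_cancel₀ q0 g3
    refine ext_ent ?_ k2 k3 ?_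
    · change B.1 0 0 = A.1 0 0
      apply mul_left_cancel₀ h2
      linear_combination k1 - htr
    · change B.1 1 1 = A.1 1 1
      apply mul_left_cancel₀ h2
      linear_combination -k1 - htr
  · right
    have hm' : m = -q := by rw [h, neg_neg]
    rw [hm'] at g1 g2 g3
    have k1 : B.1 0 0 - B.1 1 1 = -(A.1 0 0 - A.1 1 1) := mul_left_cancel₀ q0 (by linear_combination g1)
    have k2 : B.1 0 1 = -(A.1 0 1) := mul_left_cancel₀ q0 (by linear_combination g2)
    have k3 : B.1 1 0 = -(A.1 1 0) := mul_left_cancel₀ q0 (by linear_combination g3)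
    rw [ent_inv]
    refine ext_ent ?_ k2 k3 ?_
    · change B.1 0 0 = A.1 1 1
      apply mul_left_cancel₀ h2
      linear_combination k1 - htr
    · change B.1 1 1 = A.1 0 0
      apply mul_left_cancel₀ h2
      linear_combination -k1 - htr

omit [Finite F] in
/-- an element whose conjugate of odd order commutes -/
theorem comm_of_conj (h2 : (2 : F) ≠ 0) {a y : P2 F} {n : ℕ} (hn : Odd n) (ha : a ^ n = 1) (hap : a ^ p ≠ 1)
    (hc : (y * a * y⁻¹) * a = a * (y * a * y⁻¹)) : y * a * y⁻¹ = a ∨ y * a * y⁻¹ = a⁻¹ := by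
  obtain ⟨A, rfl, hA⟩ := BpRee.PslOdd.exists_lift hn ha
  obtain ⟨Y, rfl⟩ := pr_surjective y
  obtain ⟨B, hB⟩ : ∃ B, B = Y * A * Y⁻¹ := ⟨_, rfl⟩
  have e : pr Y * pr A * (pr Y)⁻¹ = pr B := by rw [hB, map_mul, map_mul, map_inv]
  rw [e] at hc ⊢
  have hcom : B * A = A * B := by
    rw [← map_mul, ← map_mul, pr_eq_iff] at hc
    rcases hc with h | h
    · exact h
    · exfalso
      have h1 : B * A * B⁻¹ = -A := by rw [h, neg_mul, mul_inv_cancel_right]
      have h3 : (B * A * B⁻¹) ^ n = 1 := by rw [conj_pow, hA, mul_one, mul_inv_cancel]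
      rw [h1, hn.neg_pow, hA] at h3
      have h4 := congrFun (congrFun (congrArg Subtype.val h3) 0) 0
      rw [Matrix.SpecialLinearGroup.coe_neg, Matrix.neg_apply] at h4
      simp only [Matrix.SpecialLinearGroup.coe_one, Matrix.one_apply_eq] at h4
      apply h2
      linear_combination -h4
  have htr : A.1.trace = B.1.trace := by
    rw [hB, Matrix.SpecialLinearGroup.coe_mul, Matrix.trace_mul_comm, ← Matrix.SpecialLinearGroup.coe_mul,
      ← mul_assoc, inv_mul_cancel, one_mul]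
  have h4 : A.1.trace ^ 2 ≠ 4 := by
    intro h
    apply hap
    rw [← map_pow, ← map_one pr, pr_eq_iff]
    rcases H160.PSLTwo.pow_of_sq_eq_four p A.2 h with h5 | h5
    · left
      apply Subtype.ext
      rw [Matrix.SpecialLinearGroup.coe_pow, h5, Matrix.SpecialLinearGroup.coe_one]
    · right
      apply Subtype.ext
      rw [Matrix.SpecialLinearGroup.coe_pow, h5, Matrix.SpecialLinearGroup.coe_neg, Matrix.SpecialLinearGroup.coe_one]
  rcases eq_or_inv h2 (congrArg Subtype.val hcom).symm htr h4 with h | h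
  · left; rw [h]
  · right; rw [h, map_inv]

/-- a nontrivial abelian normal subgroup of a solvable group -/
theorem exists_abelian_normal {H : Type*} [Group H] [Nontrivial H] (hs : Group.IsSolvable H) :
    ∃ A : Subgroup H, A.Normal ∧ A ≠ ⊥ ∧ ∀ a ∈ A, ∀ b ∈ A, a * b = b * a := by
  classical
  have hex : ∃ n, derivedSeries H n = ⊥ := hs.solvable
  obtain ⟨m, hm, hmin⟩ : ∃ m, derivedSeries H m = ⊥ ∧ ∀ k < m, derivedSeries H k ≠ ⊥ :=
    ⟨Nat.find hex, Nat.find_spec hex, fun k hk => Nat.find_min hex hk⟩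
  have hm0 : m ≠ 0 := by
    rintro rfl
    rw [derivedSeries_zero] at hm
    exact top_ne_bot hm
  obtain ⟨k, rfl⟩ := Nat.exists_eq_succ_of_ne_zero hm0
  refine ⟨derivedSeries H k, inferInstance, hmin k (by omega), ?_⟩
  intro a ha b hb
  have h1 : ⁅a, b⁆ ∈ derivedSeries H (k + 1) := by
    rw [derivedSeries_succ]
    exact commutator_mem_commutator ha hb
  rw [hm, mem_bot, commutatorElement_eq_one_iff_mul_comm] at h1
  exact h1

/-- **No subgroup of odd order has order divisible by `p` and `r`.** -/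
theorem no_both (h2 : (2 : F) ≠ 0) (hp2 : p ≠ 2) (hF : Nat.card F = p ^ f) (hf : f ≠ 0) {r : ℕ} (hr : r.Prime)
    (hrp : r ≠ p) (hprim : ∀ m, r ∣ p ^ m - 1 ↔ 2 * f ∣ m) {H : Subgroup (P2 F)} (hH : Odd (Nat.card H))
    (hpH : p ∣ Nat.card H) (hrH : r ∣ Nat.card H) : False := by
  classical
  have hp : p.Prime := Fact.out
  have : Fact r.Prime := ⟨hr⟩
  have hs : Group.IsSolvable H := S0205.result hH
  obtain ⟨y, hyo⟩ := exists_prime_orderOf_dvd_card' p hpH
  obtain ⟨x, hxo⟩ := exists_prime_orderOf_dvd_card' r hrH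
  have hy1 : y ≠ 1 := fun h => by rw [h, orderOf_one] at hyo; exact hp.one_lt.ne hyo
  have hyp : y ^ p = 1 := by rw [← hyo]; exact pow_orderOf_eq_one y
  have hxr : x ^ r = 1 := by rw [← hxo]; exact pow_orderOf_eq_one x
  have : Nontrivial H := ⟨y, 1, hy1⟩
  obtain ⟨A, hAn, hA1, hAc⟩ := exists_abelian_normal hs
  -- an element commuting with an element of order `p`
  have hcent : ∀ a b : H, a ^ p = 1 → a ≠ 1 → b * a = a * b → b ^ p = 1 := by
    intro a b ha ha1 hab
    have := pow_char_of_comm (F := F) (p := p) (x := a.1) (y := b.1) (by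
      rw [← Subgroup.coe_pow, ha, Subgroup.coe_one]) (fun h => ha1 (Subtype.ext h)) (congrArg Subtype.val hab)
    exact Subtype.ext this
  by_cases hpA : p ∣ Nat.card A
  · -- `x` acts without fixed points on the `p`-part of `A`
    let E : Subgroup H :=
      { carrier := {a | a ∈ A ∧ a ^ p = 1}
        mul_mem' := by
          rintro a b ⟨ha, hap⟩ ⟨hb, hbp⟩
          refine ⟨mul_mem ha hb, ?_⟩
          rw [(show Commute a b from hAc a ha b hb).mul_pow, hap, hbp, one_mul]
        one_mem' := ⟨one_mem _, one_pow _⟩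
        inv_mem' := by
          rintro a ⟨ha, hap⟩
          exact ⟨inv_mem ha, by rw [inv_pow, hap, inv_one]⟩ }
    have hEn : ∀ g : H, ∀ a ∈ E, g * a * g⁻¹ ∈ E := by
      rintro g a ⟨ha, hap⟩
      exact ⟨hAn.conj_mem a ha g, by rw [conj_pow, hap, mul_one, mul_inv_cancel]⟩
    have hEp : IsPGroup p E := by
      rintro ⟨a, ha, hap⟩
      exact ⟨1, Subtype.ext (by rw [pow_one]; exact hap)⟩
    obtain ⟨m, hm⟩ := IsPGroup.iff_card.1 hEp
    have hm0 : m ≠ 0 := by
      rintro rfl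
      rw [pow_zero] at hm
      obtain ⟨⟨a, haA⟩, hao⟩ := exists_prime_orderOf_dvd_card' p hpA
      have hap : a ^ p = 1 := by
        have := pow_orderOf_eq_one (⟨a, haA⟩ : A)
        rw [hao] at this
        exact congrArg Subtype.val this
      have haE : a ∈ E := ⟨haA, hap⟩
      rw [Subgroup.card_eq_one.1 hm, mem_bot] at haE
      subst haE
      have h3 : orderOf (1 : A) = p := hao
      rw [orderOf_one] at h3
      exact hp.one_lt.ne h3
    have hmf : m ≤ f := by
      rw [← v_card (F := F) hF hf]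
      apply (hp.pow_dvd_iff_le_factorization Nat.card_pos.ne').1
      rw [← hm]
      exact (card_subgroup_dvd_card E).trans (card_subgroup_dvd_card H)
    -- the permutation
    let φ : Equiv.Perm E :=
      { toFun := fun a => ⟨x * a.1 * x⁻¹, hEn x a.1 a.2⟩
        invFun := fun a => ⟨x⁻¹ * a.1 * x, by
          have := hEn x⁻¹ a.1 a.2
          rwa [inv_inv] at this⟩
        left_inv := fun a => Subtype.ext (by
          change x⁻¹ * (x * a.1 * x⁻¹) * x = a.1
          group)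
        right_inv := fun a => Subtype.ext (by
          change x * (x⁻¹ * a.1 * x) * x⁻¹ = a.1
          group) }
    have hφn : ∀ (n : ℕ) (a : E), ((φ ^ n) a).1 = x ^ n * a.1 * (x ^ n)⁻¹ := by
      intro n
      induction n with
      | zero =>
        intro a
        simp
      | succ n ih =>
        intro a
        rw [pow_succ, Equiv.Perm.mul_apply, ih]
        change x ^ n * (x * a.1 * x⁻¹) * (x ^ n)⁻¹ = _
        rw [pow_succ]
        group
    have hφr : φ ^ r ^ 1 = 1 := by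
      rw [pow_one]
      ext a
      rw [hφn, hxr]
      simp
    have hfin := Fintype.ofFinite E
    have hcard := Equiv.Perm.card_compl_support_modEq hφr
    have hone : φ.supportᶜ.card = 1 := by
      rw [Finset.card_eq_one]
      refine ⟨1, ?_⟩
      ext a
      rw [Finset.mem_compl, Equiv.Perm.mem_support, not_not, Finset.mem_singleton]
      constructor
      swap
      · rintro rfl
        apply Subtype.ext
        change x * 1 * x⁻¹ = 1
        group
      · intro ha'
        have h3 : x * a.1 * x⁻¹ = a.1 := congrArg Subtype.val ha'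
        apply Subtype.ext
        change a.1 = 1
        by_contra ha1
        have h4 := hcent a.1 x a.2.2 ha1 (by
          rw [mul_inv_eq_iff_eq_mul] at h3
          exact h3)
        have h5 : r ∣ p := by rw [← hxo]; exact orderOf_dvd_of_pow_eq_one h4
        exact hrp ((Nat.prime_dvd_prime_iff_eq hr hp).1 h5)
    rw [hone, ← Nat.card_eq_fintype_card, hm] at hcard
    have h6 : r ∣ p ^ m - 1 := (Nat.modEq_iff_dvd' (Nat.one_le_pow _ _ hp.pos)).1 hcard
    have h7 := Nat.le_of_dvd (Nat.pos_of_ne_zero hm0) ((hprim m).1 h6)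
    omega
  · -- `y` inverts or centralises
    obtain ⟨a, haA, ha1⟩ := (Subgroup.ne_bot_iff_exists_ne_one).1 hA1 |>.elim fun a ha =>
      (⟨a.1, a.2, fun h => ha (Subtype.ext h)⟩ : ∃ a : H, a ∈ A ∧ a ≠ 1)
    have hoA : orderOf a ∣ Nat.card A := by
      have := orderOf_dvd_natCard (⟨a, haA⟩ : A)
      rwa [Subgroup.orderOf_mk] at this
    have hodd : Odd (orderOf a) := Odd.of_dvd_nat hH (orderOf_dvd_natCard a)
    have hap : a ^ p ≠ 1 := by
      intro h
      rcases (Nat.dvd_prime hp).1 (orderOf_dvd_of_pow_eq_one h) with h3 | h3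
      · exact ha1 (orderOf_eq_one_iff.1 h3)
      · exact hpA (h3 ▸ hoA)
    have hc : (y * a * y⁻¹) * a = a * (y * a * y⁻¹) := hAc _ (hAn.conj_mem a haA y) _ haA
    have h3 := comm_of_conj (F := F) (p := p) (a := a.1) (y := y.1) (n := orderOf a) h2 hodd (by
      rw [← Subgroup.coe_pow, pow_orderOf_eq_one, Subgroup.coe_one]) (fun h => hap (Subtype.ext h))
      (congrArg Subtype.val hc)
    have h4 : y * a * y⁻¹ = a ∨ y * a * y⁻¹ = a⁻¹ := by
      rcases h3 with h | h
      · exact Or.inl (Subtype.ext h)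
      · exact Or.inr (Subtype.ext h)
    -- `y ^ 2` commutes with `a`
    have h5 : y ^ 2 * a * (y ^ 2)⁻¹ = a := by
      have e1 : y ^ 2 * a * (y ^ 2)⁻¹ = y * (y * a * y⁻¹) * y⁻¹ := by rw [pow_two]; group
      rw [e1]
      rcases h4 with h | h
      · rw [h, h]
      · rw [h]
        have e2 : y * a⁻¹ * y⁻¹ = (y * a * y⁻¹)⁻¹ := by group
        rw [e2, h, inv_inv]
    have h6 : Commute (y ^ 2) a := mul_inv_eq_iff_eq_mul.1 h5
    obtain ⟨k, hk⟩ := hp.odd_of_ne_two hp2
    have h7 : y = (y ^ 2) ^ (k + 1) := by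
      rw [← pow_mul, show 2 * (k + 1) = p + 1 by omega, pow_succ, hyp, one_mul]
    have h8 : Commute y a := by
      rw [h7]
      exact h6.pow_left _
    exact hap (hcent y a hyp hy1 h8.symm)

end Cfsg.Agent.H109.PD
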